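import Mathlib

set_option autoImplicit false

/-! # Project SpE (S2333): definitions

Minimal degree of `Sp_{2n}(q)`, `q` even (lower bound).  Siegel unipotent radical = symmetric
matrices, characters of it = quadratic forms, Levi `GL_n` acts by `Q ↦ Q ∘ A`. -/

namespace Cfsg.Agent.Lib.Helper18.SpE

open Matrix

section sym

variable {F : Type*} [Field F] {n : ℕ}

/-- symmetric `n × n` matrices as an additive subgroup -/
def SymM (n : ℕ) (F : Type*) [Field F] : AddSubgroup (Matrix (Fin n) (Fin n) F) where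
  carrier := {S | Sᵀ = S}
  add_mem' := by
    intro a b ha hb
    show (a + b)ᵀ = a + b
    rw [Matrix.transpose_add, ha, hb]
  zero_mem' := Matrix.transpose_zero
  neg_mem' := by
    intro a ha
    show (-a)ᵀ = -a
    rw [Matrix.transpose_neg, ha]

theorem mem_SymM {S : Matrix (Fin n) (Fin n) F} : S ∈ SymM n F ↔ Sᵀ = S := Iff.rfl

theorem cg_mem_SymM (A : Matrix (Fin n) (Fin n) F) {S : Matrix (Fin n) (Fin n) F}
    (hS : S ∈ SymM n F) : A * S * Aᵀ ∈ SymM n F := by
  rw [mem_SymM] at *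
  rw [Matrix.transpose_mul, Matrix.transpose_mul, Matrix.transpose_transpose, hS, Matrix.mul_assoc]

/-- congruence `S ↦ A S Aᵀ` as an additive endomorphism of the symmetric matrices -/
def cgS (A : Matrix (Fin n) (Fin n) F) : ↥(SymM n F) →+ ↥(SymM n F) where
  toFun S := ⟨A * S * Aᵀ, cg_mem_SymM A S.2⟩
  map_zero' := by
    apply Subtype.ext
    simp
  map_add' := by
    intro a b
    apply Subtype.ext
    simp [Matrix.mul_add, Matrix.add_mul]

theorem coe_cgS (A : Matrix (Fin n) (Fin n) F) (S : ↥(SymM n F)) :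
    ((cgS A S : ↥(SymM n F)) : Matrix (Fin n) (Fin n) F) = A * S * Aᵀ := rfl

/-- trace pairing against a fixed (arbitrary) matrix `T` -/
def trS (T : Matrix (Fin n) (Fin n) F) : ↥(SymM n F) →+ F where
  toFun S := Matrix.trace (T * (S : Matrix (Fin n) (Fin n) F))
  map_zero' := by simp
  map_add' := by intro a b; simp [Matrix.mul_add, Matrix.trace_add]

/-- the character `S ↦ χ0 (tr (T S))` of the symmetric matrices -/
def chT (χ0 : AddChar F ℂ) (T : Matrix (Fin n) (Fin n) F) : AddChar ↥(SymM n F) ℂ :=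
  χ0.compAddMonoidHom (trS T)

theorem chT_apply (χ0 : AddChar F ℂ) (T : Matrix (Fin n) (Fin n) F) (S : ↥(SymM n F)) :
    chT χ0 T S = χ0 (Matrix.trace (T * (S : Matrix (Fin n) (Fin n) F))) := rfl

/-- the quadratic form `x ↦ xᵀ T x` -/
def qfT (T : Matrix (Fin n) (Fin n) F) : QuadraticForm F (Fin n → F) :=
  LinearMap.BilinMap.toQuadraticMap (Matrix.toLinearMap₂' F T)

theorem qfT_apply (T : Matrix (Fin n) (Fin n) F) (x : Fin n → F) :
    qfT T x = x ⬝ᵥ T *ᵥ x := by
  unfold qfT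
  rw [LinearMap.BilinMap.toQuadraticMap_apply, Matrix.toLinearMap₂'_apply']

/-- the symmetric matrix `t (E_ij + E_ji)` -/
def symE (i j : Fin n) (t : F) : ↥(SymM n F) :=
  ⟨Matrix.single i j t + Matrix.single j i t, by
    rw [mem_SymM, Matrix.transpose_add, Matrix.transpose_single, Matrix.transpose_single, add_comm]⟩

theorem symE_add (i j : Fin n) (t t' : F) : symE i j (t + t') = symE i j t + symE i j t' := by
  apply Subtype.ext
  show Matrix.single i j (t + t') + Matrix.single j i (t + t') =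
    (Matrix.single i j t + Matrix.single j i t) + (Matrix.single i j t' + Matrix.single j i t')
  rw [Matrix.single_add, Matrix.single_add]
  abel

end sym

section siegel

variable {F : Type*} [Field F] {n : ℕ}

theorem uS_mem (S : ↥(SymM n F)) :
    Matrix.fromBlocks (1 : Matrix (Fin n) (Fin n) F) (S : Matrix (Fin n) (Fin n) F) 0 1 ∈
      Matrix.symplecticGroup (Fin n) F := by
  have hS : (S : Matrix (Fin n) (Fin n) F)ᵀ = S := S.2
  rw [SymplecticGroup.mem_iff, Matrix.J, Matrix.fromBlocks_transpose,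
    Matrix.fromBlocks_multiply, Matrix.fromBlocks_multiply]
  simp [hS]

/-- the Siegel element `[[1, S], [0, 1]]` -/
def uS (S : ↥(SymM n F)) : ↥(Matrix.symplecticGroup (Fin n) F) :=
  ⟨Matrix.fromBlocks 1 (S : Matrix (Fin n) (Fin n) F) 0 1, uS_mem S⟩

theorem coe_uS (S : ↥(SymM n F)) :
    ((uS S : ↥(Matrix.symplecticGroup (Fin n) F)) : Matrix (Fin n ⊕ Fin n) (Fin n ⊕ Fin n) F) =
      Matrix.fromBlocks 1 (S : Matrix (Fin n) (Fin n) F) 0 1 := rfl

theorem uS_add (S S' : ↥(SymM n F)) : uS (S + S') = uS S * uS S' := by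
  apply Subtype.ext
  show Matrix.fromBlocks 1 ((S + S' : ↥(SymM n F)) : Matrix (Fin n) (Fin n) F) 0 1 =
    Matrix.fromBlocks 1 (S : Matrix (Fin n) (Fin n) F) 0 1 *
      Matrix.fromBlocks 1 (S' : Matrix (Fin n) (Fin n) F) 0 1
  rw [Matrix.fromBlocks_multiply]
  simp [add_comm]

theorem lev_mem (A : GL (Fin n) F) :
    Matrix.fromBlocks (A : Matrix (Fin n) (Fin n) F) 0 0
      (((A⁻¹ : GL (Fin n) F) : Matrix (Fin n) (Fin n) F))ᵀ ∈ Matrix.symplecticGroup (Fin n) F := by
  have h1 : (A : Matrix (Fin n) (Fin n) F) * ((A⁻¹ : GL (Fin n) F) : Matrix (Fin n) (Fin n) F) = 1 := by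
    rw [← Matrix.GeneralLinearGroup.coe_mul, mul_inv_cancel]; rfl
  have h2 : ((A⁻¹ : GL (Fin n) F) : Matrix (Fin n) (Fin n) F) * (A : Matrix (Fin n) (Fin n) F) = 1 := by
    rw [← Matrix.GeneralLinearGroup.coe_mul, inv_mul_cancel]; rfl
  rw [SymplecticGroup.mem_iff, Matrix.J, Matrix.fromBlocks_transpose,
    Matrix.fromBlocks_multiply, Matrix.fromBlocks_multiply]
  simp only [Matrix.transpose_transpose, Matrix.transpose_zero, Matrix.mul_zero, Matrix.zero_mul,
    Matrix.mul_one, Matrix.mul_neg, Matrix.neg_mul, add_zero, zero_add, neg_zero]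
  rw [h1, ← Matrix.transpose_mul, h1, Matrix.transpose_one]

/-- the Levi element `[[A, 0], [0, A⁻ᵀ]]` -/
def lev (A : GL (Fin n) F) : ↥(Matrix.symplecticGroup (Fin n) F) :=
  ⟨Matrix.fromBlocks (A : Matrix (Fin n) (Fin n) F) 0 0
      (((A⁻¹ : GL (Fin n) F) : Matrix (Fin n) (Fin n) F))ᵀ, lev_mem A⟩

theorem lev_mul_uS (A : GL (Fin n) F) (S : ↥(SymM n F)) :
    lev A * uS S = uS (cgS (A : Matrix (Fin n) (Fin n) F) S) * lev A := by
  have h1 : (A : Matrix (Fin n) (Fin n) F) * ((A⁻¹ : GL (Fin n) F) : Matrix (Fin n) (Fin n) F) = 1 := by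
    rw [← Matrix.GeneralLinearGroup.coe_mul, mul_inv_cancel]; rfl
  apply Subtype.ext
  show Matrix.fromBlocks (A : Matrix (Fin n) (Fin n) F) 0 0
        (((A⁻¹ : GL (Fin n) F) : Matrix (Fin n) (Fin n) F))ᵀ *
      Matrix.fromBlocks 1 (S : Matrix (Fin n) (Fin n) F) 0 1 =
    Matrix.fromBlocks 1 ((A : Matrix (Fin n) (Fin n) F) * (S : Matrix (Fin n) (Fin n) F) *
        (A : Matrix (Fin n) (Fin n) F)ᵀ) 0 1 *
      Matrix.fromBlocks (A : Matrix (Fin n) (Fin n) F) 0 0
        (((A⁻¹ : GL (Fin n) F) : Matrix (Fin n) (Fin n) F))ᵀ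
  rw [Matrix.fromBlocks_multiply, Matrix.fromBlocks_multiply]
  simp only [Matrix.mul_zero, Matrix.zero_mul, Matrix.mul_one, Matrix.one_mul, add_zero, zero_add]
  have h2 : ((A⁻¹ : GL (Fin n) F) : Matrix (Fin n) (Fin n) F) * (A : Matrix (Fin n) (Fin n) F) = 1 := by
    rw [← Matrix.GeneralLinearGroup.coe_mul, inv_mul_cancel]; rfl
  congr 1
  rw [Matrix.mul_assoc, Matrix.mul_assoc, ← Matrix.transpose_mul, h2, Matrix.transpose_one,
    Matrix.mul_one]

theorem lev_conj (A : GL (Fin n) F) (S : ↥(SymM n F)) :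
    lev A * uS S * (lev A)⁻¹ = uS (cgS (A : Matrix (Fin n) (Fin n) F) S) := by
  rw [lev_mul_uS, mul_assoc, mul_inv_cancel, mul_one]

end siegel

section qb

variable {F : Type*} [Field F] {V : Type*} [AddCommGroup V] [Module F V]

/-- a set of quadratic forms stable under all linear automorphisms -/
def Stable (𝒬 : Set (QuadraticForm F V)) : Prop :=
  ∀ Q ∈ 𝒬, ∀ g : V ≃ₗ[F] V, Q.comp (g : V →ₗ[F] V) ∈ 𝒬

/-- some member has a nonzero polar form -/
def HasPolar (𝒬 : Set (QuadraticForm F V)) : Prop :=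
  ∃ Q ∈ 𝒬, ∃ x y : V, QuadraticMap.polar Q x y ≠ 0

/-- the orbit bound: a stable set of quadratic forms on `V` (`|V| = q^n`) having a member with
nonzero polar form has at least `(q^n - 1)(q^n - q) / (2 (q + 1))` members -/
def QBound (F : Type*) [Field F] [Fintype F] (V : Type*) [AddCommGroup V] [Module F V] : Prop :=
  ∀ 𝒬 : Set (QuadraticForm F V), Stable 𝒬 → HasPolar 𝒬 →
    (Nat.card V - 1) * (Nat.card V - Fintype.card F) ≤ 2 * (Fintype.card F + 1) * 𝒬.ncard

end qb

end Cfsg.Agent.Lib.Helper18.SpE
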