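import Cfsg.Agent.Lib.Helper18.SpE.Main
import Cfsg.Agent.Lib.Helper21.WBRa
import Cfsg.Agent.Lib.Helper11.WBRb
import Cfsg.Agent.Lib.Helper22.SpED1
import Cfsg.Agent.Lib.Helper22.SpED2
import Cfsg.Agent.Lib.Helper16.SpEN

set_option autoImplicit false

namespace Cfsg.Agent.Lib.Helper18.SpE

open Matrix Cfsg.Agent.Lib.helper15.WB Cfsg.Agent.Lib.Helper22.SpED1 Cfsg.Agent.Lib.Helper22.SpED2
  Cfsg.Agent.Lib.Helper16.SpEN



section final

variable {F : Type*} [Field F] [Fintype F]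

theorem main (n : ℕ) (hn : 2 ≤ n) (heven : Even (Fintype.card F))
    (hex : (n, Fintype.card F) ≠ (2, 2)) (k : ℕ)
    (ρ : Representation ℂ ↥(Matrix.symplecticGroup (Fin n) F) (Fin k → ℂ))
    (hirr : ρ.IsIrreducible) (hk : 2 ≤ k) :
    (Fintype.card F ^ n - 1) * (Fintype.card F ^ n - Fintype.card F) ≤
      2 * (Fintype.card F + 1) * k := by
  classical
  -- characteristic 2
  haveI : CharP F 2 := by
    have h2 : ringChar F = 2 := FiniteField.even_card_iff_char_two.mpr (Nat.even_iff.mp heven)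
    exact ringChar.of_eq h2
  have h22 : n = 2 → 3 ≤ Fintype.card F := by
    intro h
    have h1 : Fintype.card F ≠ 2 := fun h' => hex (by rw [h, h'])
    have h3 : 1 < Fintype.card F := Fintype.one_lt_card
    obtain ⟨r, hr⟩ := heven
    omega
  -- a nontrivial additive character of F
  obtain ⟨χ0, hχ0⟩ : ∃ χ0 : AddChar F ℂ, χ0 ≠ 1 := by
    obtain ⟨ψ, hψ⟩ := (AddChar.exists_apply_ne_zero (α := F) (a := 1)).mpr one_ne_zero
    refine ⟨ψ, fun h => hψ ?_⟩
    rw [h, AddChar.one_apply]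
  let i0 : Fin n := ⟨0, by omega⟩
  let i1 : Fin n := ⟨1, by omega⟩
  have hi01 : i0 ≠ i1 := by
    intro h
    have := congrArg Fin.val h
    simp [i0, i1] at this
  set φ : ↥(SymM n F) → ↥(Matrix.symplecticGroup (Fin n) F) := fun S => uS S with hφdef
  have hφ : ∀ a b, φ (a + b) = φ a * φ b := fun a b => uS_add a b
  set φ' : F → ↥(Matrix.symplecticGroup (Fin n) F) := fun t => uS (symE i0 i1 t) with hφ'def
  have hφ' : ∀ a b, φ' (a + b) = φ' a * φ' b := by
    intro a b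
    show uS (symE i0 i1 (a + b)) = uS (symE i0 i1 a) * uS (symE i0 i1 b)
    rw [symE_add, uS_add]
  have hcomm : ∀ a b, φ' a * φ b = φ b * φ' a := by
    intro a b
    show uS (symE i0 i1 a) * uS b = uS b * uS (symE i0 i1 a)
    rw [← uS_add, ← uS_add, add_comm]
  have hE1 : symE (F := F) i0 i1 1 ≠ 0 := by
    intro h
    have h1 := congrArg (fun S : ↥(SymM n F) => (S : Matrix (Fin n) (Fin n) F) i0 i1) h
    simp [symE, Matrix.single_apply, hi01, hi01.symm] at h1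
  have hne : ρ (φ' 1) ≠ 1 := rho_uS_ne_one n hn h22 ρ hirr hk _ hE1
  obtain ⟨ψ', hψ'occ, hψ'ne⟩ := Cfsg.Agent.Lib.Helper21.WBRa.exists_occ_ne_one ρ φ' hφ' ⟨1, hne⟩
  obtain ⟨μ, v, hv0, hv1, hv2⟩ :=
    Cfsg.Agent.Lib.Helper21.WBRa.exists_joint ρ φ' φ hφ hcomm hψ'occ
  have hμocc : μ ∈ Occ ρ φ := ⟨v, hv0, hv2⟩
  obtain ⟨t, ht⟩ : ∃ t, ψ' t ≠ 1 := by
    by_contra hcon
    push Not at hcon
    apply hψ'ne
    ext x
    rw [hcon x, AddChar.one_apply]
  have hμt : μ (symE i0 i1 t) = ψ' t := by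
    have e1 := hv1 t
    have e2 := hv2 (symE i0 i1 t)
    have e3 : ψ' t • v = μ (symE i0 i1 t) • v := by rw [← e1, ← e2]
    by_contra hcon
    apply hv0
    have : (μ (symE i0 i1 t) - ψ' t) • v = 0 := by rw [sub_smul, e3, sub_self]
    rcases smul_eq_zero.mp this with h | h
    · exact absurd (sub_eq_zero.mp h) hcon
    · exact h
  obtain ⟨T₀, hT₀⟩ := chT_surj χ0 hχ0 μ
  have hT₀ne : T₀ i0 i1 + T₀ i1 i0 ≠ 0 := by
    intro h
    apply ht
    rw [← hμt, ← hT₀, chT_symE χ0 T₀ i0 i1 hi01 t, h, mul_zero, AddChar.map_zero_eq_one]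
  -- the set of quadratic forms
  set 𝒬 : Set (QuadraticForm F (Fin n → F)) :=
    {Q | ∃ T : Matrix (Fin n) (Fin n) F, qfT T = Q ∧ chT χ0 T ∈ Occ ρ φ} with h𝒬
  have hst : Stable 𝒬 := by
    rintro Q ⟨T, rfl, hT⟩ g
    set A : Matrix (Fin n) (Fin n) F := LinearMap.toMatrix' (g : (Fin n → F) →ₗ[F] (Fin n → F))
      with hA
    set A' : Matrix (Fin n) (Fin n) F :=
      LinearMap.toMatrix' (g.symm : (Fin n → F) →ₗ[F] (Fin n → F)) with hA'
    have hAA' : A * A' = 1 := by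
      rw [hA, hA', ← LinearMap.toMatrix'_comp]
      have : (g : (Fin n → F) →ₗ[F] (Fin n → F)) ∘ₗ (g.symm : (Fin n → F) →ₗ[F] (Fin n → F)) =
          LinearMap.id := by
        ext x; simp
      rw [this, LinearMap.toMatrix'_id]
    have hA'A : A' * A = 1 := by
      rw [hA, hA', ← LinearMap.toMatrix'_comp]
      have : (g.symm : (Fin n → F) →ₗ[F] (Fin n → F)) ∘ₗ (g : (Fin n → F) →ₗ[F] (Fin n → F)) =
          LinearMap.id := by
        ext x; simp
      rw [this, LinearMap.toMatrix'_id]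
    let Agl : GL (Fin n) F := ⟨A, A', hAA', hA'A⟩
    have hg : (g : (Fin n → F) →ₗ[F] (Fin n → F)) = Matrix.toLin' A := by
      rw [hA, Matrix.toLin'_toMatrix']
    refine ⟨Aᵀ * T * A, ?_, ?_⟩
    · rw [hg, qfT_comp]
    · rw [← chT_comp_cgS]
      exact Cfsg.Agent.Lib.Helper11.WBRb.occ_comp ρ φ (lev Agl) (cgS A)
        (fun S => lev_conj Agl S) hT
  have hp : HasPolar 𝒬 := by
    refine ⟨qfT T₀, ⟨T₀, rfl, by rw [hT₀]; exact hμocc⟩, Pi.single i0 1, Pi.single i1 1, ?_⟩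
    rw [polar_qfT_single T₀ i0 i1 hi01]
    exact hT₀ne
  have hb := qbound_pi (F := F) n 𝒬 hst hp
  have hcardV : Nat.card (Fin n → F) = Fintype.card F ^ n := by
    rw [Nat.card_eq_fintype_card, Fintype.card_fun, Fintype.card_fin]
  rw [hcardV] at hb
  -- |𝒬| ≤ k
  have hle : 𝒬.ncard ≤ k := by
    haveI : Finite (QuadraticForm F (Fin n → F)) := DFunLike.finite _
    have hsel : ∀ Q : ↥𝒬, ∃ T : Matrix (Fin n) (Fin n) F, qfT T = (Q : QuadraticForm F (Fin n → F)) ∧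
        chT χ0 T ∈ Occ ρ φ := fun Q => Q.2
    choose Tsel hTsel1 hTsel2 using hsel
    have hinj : Function.Injective (fun Q : ↥𝒬 => chT χ0 (Tsel Q)) := by
      intro Q Q' h
      have h' := (chT_eq_iff χ0 hχ0 (Tsel Q) (Tsel Q')).mp h
      apply Subtype.ext
      rw [← hTsel1 Q, ← hTsel1 Q', h']
    haveI : Fintype ↥𝒬 := Fintype.ofFinite _
    have h1 := Cfsg.Agent.Lib.Helper21.WBRa.card_occ_le ρ φ hφ
      (Finset.univ.image (fun Q : ↥𝒬 => chT χ0 (Tsel Q)))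
      (by
        intro ψ hψ
        obtain ⟨Q, _, rfl⟩ := Finset.mem_image.mp hψ
        exact hTsel2 Q)
    rw [Finset.card_image_of_injective _ hinj, Finset.card_univ, Module.finrank_fin_fun] at h1
    rw [← Nat.card_coe_set_eq, Nat.card_eq_fintype_card]
    exact h1
  calc (Fintype.card F ^ n - 1) * (Fintype.card F ^ n - Fintype.card F)
      ≤ 2 * (Fintype.card F + 1) * 𝒬.ncard := hb
    _ ≤ 2 * (Fintype.card F + 1) * k := Nat.mul_le_mul_left _ hle

end final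

end Cfsg.Agent.Lib.Helper18.SpE
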