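import Cfsg.Agent.Lib.Helper18.SpE.Defs
import Cfsg.Agent.Lib.Helper18.SpEE
import Cfsg.Agent.Lib.Helper27.SpEA3

set_option autoImplicit false

namespace Cfsg.Agent.Lib.Helper18.SpE

open Matrix Cfsg.Agent.Lib.Helper18.SpEE Cfsg.Agent.Lib.Helper27.SpEA3



section M

set_option linter.unusedSectionVars false

variable {F : Type*} [Field F] [Fintype F]

theorem comp_injective_of_equiv {V V' : Type*} [AddCommGroup V] [Module F V] [AddCommGroup V']
    [Module F V'] (e : V ≃ₗ[F] V') :
    Function.Injective (fun Q' : QuadraticForm F V' => Q'.comp (e : V →ₗ[F] V')) := by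
  intro Q Q' h
  ext x
  have := congrArg (fun P : QuadraticForm F V => P (e.symm x)) h
  simpa using this

theorem QBound_congr {V V' : Type*} [AddCommGroup V] [Module F V] [AddCommGroup V'] [Module F V']
    (e : V ≃ₗ[F] V') (h : QBound F V) : QBound F V' := by
  intro 𝒬' hst hp
  have hcard : Nat.card V' = Nat.card V := (Nat.card_congr e.toEquiv).symm
  rw [hcard]
  have hinj := comp_injective_of_equiv e
  rw [← Set.ncard_image_of_injective 𝒬' hinj]
  apply h
  · rintro _ ⟨Q', hQ', rfl⟩ g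
    refine ⟨Q'.comp ((e.symm.trans (g.trans e) : V' ≃ₗ[F] V') : V' →ₗ[F] V'), hst Q' hQ' _, ?_⟩
    ext x
    simp
  · obtain ⟨Q', hQ', x, y, hxy⟩ := hp
    refine ⟨_, ⟨Q', hQ', rfl⟩, e.symm x, e.symm y, ?_⟩
    have : QuadraticMap.polar (Q'.comp (e : V →ₗ[F] V')) (e.symm x) (e.symm y) =
        QuadraticMap.polar Q' x y := by
      simp [QuadraticMap.polar]
    rw [this]
    exact hxy

theorem polar_self_char_two [CharP F 2] {V : Type*} [AddCommGroup V] [Module F V]
    (Q : QuadraticForm F V) (x : V) : QuadraticMap.polar Q x x = 0 := by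
  have h2 : (2 : F) = 0 := CharP.cast_eq_zero F 2
  have : QuadraticMap.polar Q x x = 2 * Q x := by
    rw [QuadraticMap.polar_self]
    simp [two_mul, two_smul]
  rw [this, h2, zero_mul]

theorem arith_step (q N' a b : ℕ) (hq : 1 ≤ q) (hN : N' = 1 ∨ q ≤ N')
    (hA : (q - 1) * ((N' - 1) * N') ≤ 2 * a)
    (hB : (N' - 1) * (N' - q) ≤ 2 * (q + 1) * b) :
    (q * N' - 1) * (q * N' - q) ≤ 2 * (q + 1) * (a + b) := by
  rcases hN with rfl | hN
  · simp
  · obtain ⟨p, rfl⟩ : ∃ p, q = p + 1 := ⟨q - 1, by omega⟩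
    obtain ⟨j, rfl⟩ : ∃ j, N' = p + 1 + j := ⟨N' - (p + 1), by omega⟩
    have e1 : p + 1 - 1 = p := by omega
    have e2 : p + 1 + j - 1 = p + j := by omega
    have e3 : p + 1 + j - (p + 1) = j := by omega
    have e4 : (p + 1) * (p + 1 + j) - 1 = p * p + 2 * p + p * j + j := by
      have : (p + 1) * (p + 1 + j) = p * p + 2 * p + p * j + j + 1 := by ring
      omega
    have e5 : (p + 1) * (p + 1 + j) - (p + 1) = (p + 1) * (p + j) := by
      have : (p + 1) * (p + 1 + j) = (p + 1) * (p + j) + (p + 1) := by ring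
      omega
    rw [e1, e2] at hA
    rw [e2, e3] at hB
    rw [e4, e5]
    calc (p * p + 2 * p + p * j + j) * ((p + 1) * (p + j))
        = (p + 2) * (p * ((p + j) * (p + 1 + j))) + (p + j) * j := by ring
      _ ≤ (p + 2) * (2 * a) + 2 * (p + 1 + 1) * b :=
          add_le_add (Nat.mul_le_mul_left _ hA) hB
      _ = 2 * (p + 1 + 1) * (a + b) := by ring

theorem card_of_finrank_le_one {W : Type*} [AddCommGroup W] [Module F W] [Finite W]
    (h : ¬ 2 ≤ Module.finrank F W) : Nat.card W = 1 ∨ Nat.card W = Fintype.card F := by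
  classical
  haveI := Fintype.ofFinite W
  have hc : Fintype.card W = Fintype.card F ^ Module.finrank F W := Module.card_eq_pow_finrank
  rw [Nat.card_eq_fintype_card, hc]
  have : Module.finrank F W = 0 ∨ Module.finrank F W = 1 := by omega
  rcases this with h0 | h1
  · left; rw [h0, pow_zero]
  · right; rw [h1, pow_one]

theorem card_ge_of_finrank {W : Type*} [AddCommGroup W] [Module F W] [Finite W]
    (h : 2 ≤ Module.finrank F W) : Fintype.card F ≤ Nat.card W := by
  classical
  haveI := Fintype.ofFinite W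
  have hc : Fintype.card W = Fintype.card F ^ Module.finrank F W := Module.card_eq_pow_finrank
  rw [Nat.card_eq_fintype_card, hc]
  calc Fintype.card F = Fintype.card F ^ 1 := (pow_one _).symm
    _ ≤ Fintype.card F ^ Module.finrank F W :=
        Nat.pow_le_pow_right Fintype.card_pos (by omega)

theorem qbound_step [CharP F 2] {W : Type*} [AddCommGroup W] [Module F W] [Finite W]
    (hW : 2 ≤ Module.finrank F W → QBound F W) : QBound F (F × W) := by
  classical
  intro 𝒬 hst hp
  haveI : Finite (QuadraticForm F (F × W)) := DFunLike.finite _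
  haveI : Finite (QuadraticForm F W) := DFunLike.finite _
  set e : F × W := ((1 : F), (0 : W)) with he_def
  have he : e ≠ 0 := by
    intro h
    have := congrArg Prod.fst h
    simp [he_def] at this
  obtain ⟨Q₁, hQ₁, ha, y, hy⟩ := exists_nonsing 𝒬 hst hp e he
  have hβ : ∃ h : W, QuadraticMap.polar Q₁ ((1 : F), (0 : W)) ((0 : F), h) ≠ 0 := by
    refine ⟨y.2, ?_⟩
    have hy' : y = y.1 • e + ((0 : F), y.2) := by
      ext <;> simp [he_def]
    rw [hy', QuadraticMap.polar_add_right, QuadraticMap.polar_smul_right,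
      polar_self_char_two, smul_zero, zero_add] at hy
    exact hy
  have hA := partA 𝒬 hst Q₁ hQ₁ ha hβ
  -- part B
  set 𝒬B : Set (QuadraticForm F (F × W)) := {Q | Q ∈ 𝒬 ∧ Q ((1 : F), (0 : W)) = 0} with hQB
  set 𝒬A : Set (QuadraticForm F (F × W)) := {Q | Q ∈ 𝒬 ∧ Q ((1 : F), (0 : W)) ≠ 0} with hQA
  set 𝒬' : Set (QuadraticForm F W) :=
    (fun Q : QuadraticForm F (F × W) => Q.comp (LinearMap.inr F F W)) '' 𝒬B with hQ'
  have hB1 : 𝒬'.ncard ≤ 𝒬B.ncard := Set.ncard_image_le (Set.toFinite _)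
  have hst' : Stable 𝒬' := by
    rintro _ ⟨Q, ⟨hQ, hQ0⟩, rfl⟩ A
    refine ⟨Q.comp ((LinearEquiv.prodCongr (LinearEquiv.refl F F) A : (F × W) ≃ₗ[F] (F × W)) :
      (F × W) →ₗ[F] (F × W)), ⟨hst Q hQ _, ?_⟩, ?_⟩
    · simpa using hQ0
    · ext x
      simp
  have hB : (Nat.card W - 1) * (Nat.card W - Fintype.card F) ≤
      2 * (Fintype.card F + 1) * 𝒬B.ncard := by
    by_cases h2 : 2 ≤ Module.finrank F W
    · have hp' : HasPolar 𝒬' := by
        obtain ⟨Q, hQ, hQ0, h₁, h₂, h12⟩ := exists_sing_split h2 𝒬 hst hp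
        refine ⟨_, ⟨Q, ⟨hQ, hQ0⟩, rfl⟩, h₁, h₂, ?_⟩
        have : QuadraticMap.polar (Q.comp (LinearMap.inr F F W)) h₁ h₂ =
            QuadraticMap.polar Q ((0 : F), h₁) ((0 : F), h₂) := by
          simp [QuadraticMap.polar]
        rw [this]
        exact h12
      calc (Nat.card W - 1) * (Nat.card W - Fintype.card F)
          ≤ 2 * (Fintype.card F + 1) * 𝒬'.ncard := hW h2 𝒬' hst' hp'
        _ ≤ 2 * (Fintype.card F + 1) * 𝒬B.ncard := Nat.mul_le_mul_left _ hB1
    · rcases card_of_finrank_le_one (F := F) h2 with h1 | h1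
      · rw [h1]; simp
      · rw [h1]; simp
  have hunion : 𝒬.ncard = 𝒬A.ncard + 𝒬B.ncard := by
    have h1 : 𝒬 = 𝒬A ∪ 𝒬B := by
      ext Q
      simp only [hQA, hQB, Set.mem_union, Set.mem_setOf_eq]
      constructor
      · intro hQ
        by_cases h0 : Q ((1 : F), (0 : W)) = 0
        · exact Or.inr ⟨hQ, h0⟩
        · exact Or.inl ⟨hQ, h0⟩
      · rintro (h | h) <;> exact h.1
    have h2 : Disjoint 𝒬A 𝒬B := by
      rw [Set.disjoint_left]
      rintro Q ⟨_, h1⟩ ⟨_, h2⟩
      exact h1 h2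
    rw [h1, Set.ncard_union_eq h2 (Set.toFinite _) (Set.toFinite _)]
  have hcard : Nat.card (F × W) = Fintype.card F * Nat.card W := by
    rw [Nat.card_prod, Nat.card_eq_fintype_card]
  rw [hcard, hunion]
  have hN : Nat.card W = 1 ∨ Fintype.card F ≤ Nat.card W := by
    by_cases h2 : 2 ≤ Module.finrank F W
    · exact Or.inr (card_ge_of_finrank h2)
    · rcases card_of_finrank_le_one (F := F) h2 with h1 | h1
      · exact Or.inl h1
      · exact Or.inr h1.ge
  exact arith_step _ _ _ _ Fintype.card_pos hN hA hB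

theorem qbound_pi [CharP F 2] (n : ℕ) : QBound F (Fin n → F) := by
  induction n with
  | zero =>
    intro 𝒬 _ _
    have : Nat.card (Fin 0 → F) = 1 := by
      rw [Nat.card_eq_fintype_card]; simp
    rw [this]; simp
  | succ n ih =>
    exact QBound_congr (Fin.consLinearEquiv F (fun _ : Fin (n + 1) => F))
      (qbound_step (W := Fin n → F) (fun _ => ih))

end M

end Cfsg.Agent.Lib.Helper18.SpE
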